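import Mathlib
import Cfsg.Agent.H93.CI.Deriv
import Cfsg.Agent.H93.ONSub.Bound

/-!
A derivation with a list of nodes closed under all letters bounds the number of cosets.
-/

set_option autoImplicit false

namespace H77
namespace A2

open H93.CosetI

/-- the item `z` leads from `c` by the letter `g` to one of the nodes -/
def exitOK (P : Deriv) (N : ℕ) (nodes : List ℕ) (c g z : ℕ) : Bool :=
  match P.path N [z] c with
  | none => false
  | some (u, d) => decide (u = [g]) && nodes.contains d

/-- the nodes are closed under the letters, by the items listed -/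
def closedOK (P : Deriv) (N : ℕ) (nodes : List ℕ) (exits : List (List ℕ)) : Bool :=
  nodes.contains 0 && decide (nodes.length = exits.length) &&
    (nodes.zip exits).all fun e =>
      decide (e.2.length = P.ng) && ((List.range P.ng).zip e.2).all fun q => exitOK P N nodes e.1 q.1 q.2

variable {G : Type*} [Group G] {gen : ℕ → G}

theorem bound_of_surj {ι : Type*} [Finite ι] (L : Subgroup G) (f : ι → G ⧸ L)
    (hf : Function.Surjective f) {m : ℕ} (hL : Finite L ∧ Nat.card L ≤ m) :
    Finite G ∧ Nat.card G ≤ Nat.card ι * m := by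
  have := hL.1
  have : Finite (G ⧸ L) := Finite.of_surjective f hf
  refine ⟨Finite.of_equiv _ L.groupEquivQuotientProdSubgroup.symm, ?_⟩
  rw [← L.index_mul_card]
  exact Nat.mul_le_mul (Nat.card_le_card_of_surjective f hf) hL.2

theorem bound_of_closed {P : Deriv} {L : Subgroup G} {N : ℕ} {nodes : List ℕ} {exits : List (List ℕ)}
    (h : P.Hyp gen ((1 : G) : G ⧸ L)) (hN : ∀ i < N, P.Holds gen ((1 : G) : G ⧸ L) i)
    (hok : closedOK P N nodes exits = true)
    (hgen : Subgroup.closure (gen '' {g | g < P.ng}) = ⊤)
    {m : ℕ} (hL : Finite L ∧ Nat.card L ≤ m) :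
    Finite G ∧ Nat.card G ≤ nodes.length * m := by
  simp only [closedOK, Bool.and_eq_true, List.contains_iff_mem, decide_eq_true_eq,
    List.all_eq_true] at hok
  obtain ⟨⟨h0, hlen⟩, hex⟩ := hok
  have step : ∀ c ∈ nodes, ∀ g < P.ng, ∃ d ∈ nodes,
      gen g • P.node gen ((1 : G) : G ⧸ L) c = P.node gen ((1 : G) : G ⧸ L) d := by
    intro c hc g hg
    obtain ⟨i, hi, rfl⟩ := List.getElem_of_mem hc
    have hmem : (nodes[i], exits[i]'(hlen ▸ hi)) ∈ nodes.zip exits := by
      rw [List.mem_iff_getElem]
      exact ⟨i, by simp [List.length_zip]; omega, by simp⟩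
    obtain ⟨hl, hall⟩ := hex _ hmem
    dsimp only at hl hall
    have hq : (g, (exits[i]'(hlen ▸ hi))[g]'(hl ▸ hg)) ∈
        (List.range P.ng).zip (exits[i]'(hlen ▸ hi)) := by
      rw [List.mem_iff_getElem]
      exact ⟨g, by simp [List.length_zip]; omega, by simp⟩
    have := hall _ hq
    dsimp only [exitOK] at this
    split at this
    · exact absurd this (by simp)
    rename_i u d hp
    simp only [Bool.and_eq_true, decide_eq_true_eq, List.contains_iff_mem] at this
    obtain ⟨rfl, hd⟩ := this
    refine ⟨d, hd, ?_⟩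
    simpa [ev] using (Deriv.path_sound h hN _ hp).2
  have hsurj : Function.Surjective
      (fun i : Fin nodes.length => P.node gen ((1 : G) : G ⧸ L) nodes[i.1]) := by
    intro q
    induction q using QuotientGroup.induction_on with
    | _ a =>
      have key : ∀ c ∈ nodes, ∃ d ∈ nodes,
          a • P.node gen ((1 : G) : G ⧸ L) c = P.node gen ((1 : G) : G ⧸ L) d := by
        have ha : a ∈ Subgroup.closure (gen '' {g | g < P.ng}) := hgen ▸ Subgroup.mem_top a
        induction ha using Subgroup.closure_induction'' with
        | mem x hx =>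
          obtain ⟨g, hg, rfl⟩ := hx
          exact fun c hc => step c hc g hg
        | inv_mem x hx =>
          obtain ⟨g, hg, rfl⟩ := hx
          intro c hc
          rw [inv_eq_of_mul_eq_one_left (h.inv g hg)]
          exact step c hc _ (h.ivlt g hg)
        | one => exact fun c hc => ⟨c, hc, one_smul G _⟩
        | mul x y _ _ hx hy =>
          intro c hc
          obtain ⟨d, hd, e⟩ := hy c hc
          obtain ⟨d', hd', e'⟩ := hx d hd
          exact ⟨d', hd', by rw [mul_smul, e, e']⟩
      obtain ⟨d, hd, e⟩ := key 0 h0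
      obtain ⟨i, hi, rfl⟩ := List.getElem_of_mem hd
      refine ⟨⟨i, hi⟩, ?_⟩
      show P.node gen _ nodes[i] = _
      rw [← e, Deriv.node_zero]
      show ((a * 1 : G) : G ⧸ L) = _
      rw [mul_one]
  have := bound_of_surj L _ hsurj hL
  rwa [Nat.card_fin] at this

end A2
end H77
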