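import Mathlib
import Cfsg.Agent.H77.A2.Power.P0
import Cfsg.Agent.H77.A2.Power.P1

/-!
A derivation that (x y³)¹² fixes the first coset (generated data).
-/

set_option autoImplicit false
set_option maxRecDepth 100000
set_option linter.all false
set_option Elab.async false

namespace H77
namespace A2
namespace Power

open H93.CosetI

noncomputable section

variable {G X : Type*} [Group G] [MulAction G X] {gen : ℕ → G} {x₀ : X}

theorem holds0 : ∀ i < 0, data.Holds gen x₀ i := fun i hi => absurd hi (Nat.not_lt_zero i)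
theorem holds1 (h : data.Hyp gen x₀) : ∀ i < 250, data.Holds gen x₀ i :=
  Deriv.steps_sound h st0 ok0 holds0
theorem holds2 (h : data.Hyp gen x₀) : ∀ i < 500, data.Holds gen x₀ i :=
  Deriv.steps_sound h st1 ok1 (holds1 h)
theorem holds3 (h : data.Hyp gen x₀) : ∀ i < 750, data.Holds gen x₀ i :=
  Deriv.steps_sound h st2 ok2 (holds2 h)
theorem holds4 (h : data.Hyp gen x₀) : ∀ i < 1000, data.Holds gen x₀ i :=
  Deriv.steps_sound h st3 ok3 (holds3 h)
theorem holds5 (h : data.Hyp gen x₀) : ∀ i < 1250, data.Holds gen x₀ i :=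
  Deriv.steps_sound h st4 ok4 (holds4 h)
theorem holds6 (h : data.Hyp gen x₀) : ∀ i < 1500, data.Holds gen x₀ i :=
  Deriv.steps_sound h st5 ok5 (holds5 h)
theorem holds7 (h : data.Hyp gen x₀) : ∀ i < 1750, data.Holds gen x₀ i :=
  Deriv.steps_sound h st6 ok6 (holds6 h)
theorem holds8 (h : data.Hyp gen x₀) : ∀ i < 2000, data.Holds gen x₀ i :=
  Deriv.steps_sound h st7 ok7 (holds7 h)
theorem holds9 (h : data.Hyp gen x₀) : ∀ i < 2250, data.Holds gen x₀ i :=
  Deriv.steps_sound h st8 ok8 (holds8 h)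
theorem holds10 (h : data.Hyp gen x₀) : ∀ i < 2500, data.Holds gen x₀ i :=
  Deriv.steps_sound h st9 ok9 (holds9 h)
theorem holds11 (h : data.Hyp gen x₀) : ∀ i < 2750, data.Holds gen x₀ i :=
  Deriv.steps_sound h st10 ok10 (holds10 h)
theorem holds12 (h : data.Hyp gen x₀) : ∀ i < 3000, data.Holds gen x₀ i :=
  Deriv.steps_sound h st11 ok11 (holds11 h)
theorem holds13 (h : data.Hyp gen x₀) : ∀ i < 3250, data.Holds gen x₀ i :=
  Deriv.steps_sound h st12 ok12 (holds12 h)
theorem holds14 (h : data.Hyp gen x₀) : ∀ i < 3500, data.Holds gen x₀ i :=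
  Deriv.steps_sound h st13 ok13 (holds13 h)
theorem holds15 (h : data.Hyp gen x₀) : ∀ i < 3750, data.Holds gen x₀ i :=
  Deriv.steps_sound h st14 ok14 (holds14 h)
theorem holds16 (h : data.Hyp gen x₀) : ∀ i < 4000, data.Holds gen x₀ i :=
  Deriv.steps_sound h st15 ok15 (holds15 h)
theorem holds17 (h : data.Hyp gen x₀) : ∀ i < 4250, data.Holds gen x₀ i :=
  Deriv.steps_sound h st16 ok16 (holds16 h)
theorem holds18 (h : data.Hyp gen x₀) : ∀ i < 4352, data.Holds gen x₀ i :=
  Deriv.steps_sound h st17 ok17 (holds17 h)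
theorem holds (h : data.Hyp gen x₀) : ∀ i < 4352, data.Holds gen x₀ i := holds18 h
def word : List ℕ := [1,1,1,0,1,1,1,0,1,1,1,0,1,1,1,0,1,1,1,0,1,1,1,0,1,1,1,0,1,1,1,0,1,1,1,0,1,1,1,0,1,1,1,0,1,1,1,0]
theorem final : data.finalOK 4352 [2,4,6,92,94,96,2054,1979,2370,2372,2588,2590,2592,2718,8382,8379,8500,8502,8528,8530,8532,8534,8696,8698,8700,8702,8694,8673,8676,8496,8066,8068,8070,6100,6102,3409,3436,1882,1884,1886,1888,1890,744,181,154,90,58,1] word = true := by decide +kernel
theorem fix (h : data.Hyp gen x₀) : ev gen word • x₀ = x₀ :=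
  Deriv.fix_of_word h (holds h) final

end

end Power
end A2
end H77
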