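import Mathlib
import Cfsg.Agent.H77.A2.Step.P0
import Cfsg.Agent.H77.A2.Step.P1
import Cfsg.Agent.H77.A2.Step.P2
import Cfsg.Agent.H77.A2.Step.P3
import Cfsg.Agent.H77.A2.Step.P4
import Cfsg.Agent.H77.A2.Closed

/-!
A derivation that closes 352 cosets of the subgroup on x and y (generated data).
-/

set_option autoImplicit false
set_option maxRecDepth 100000
set_option linter.all false
set_option Elab.async false

namespace H77
namespace A2
namespace Step

open H93.CosetI

noncomputable section

variable {G X : Type*} [Group G] [MulAction G X] {gen : ℕ → G} {x₀ : X}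

theorem holds0 : ∀ i < 0, data.Holds gen x₀ i := fun i hi => absurd hi (Nat.not_lt_zero i)
theorem holds1 (h : data.Hyp gen x₀) : ∀ i < 250, data.Holds gen x₀ i :=
  Deriv.steps_sound h st0 ok0 holds0
theorem holds2 (h : data.Hyp gen x₀) : ∀ i < 500, data.Holds gen x₀ i :=
  Deriv.steps_sound h st1 ok1 (holds1 h)
theorem holds3 (h : data.Hyp gen x₀) : ∀ i < 750, data.Holds gen x₀ i :=
  Deriv.steps_sound h st2 ok2 (holds2 h)
theorem holds4 (h : data.Hyp gen x₀) : ∀ i < 1000, data.Holds gen x₀ i :=
  Deriv.steps_sound h st3 ok3 (holds3 h)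
theorem holds5 (h : data.Hyp gen x₀) : ∀ i < 1250, data.Holds gen x₀ i :=
  Deriv.steps_sound h st4 ok4 (holds4 h)
theorem holds6 (h : data.Hyp gen x₀) : ∀ i < 1500, data.Holds gen x₀ i :=
  Deriv.steps_sound h st5 ok5 (holds5 h)
theorem holds7 (h : data.Hyp gen x₀) : ∀ i < 1750, data.Holds gen x₀ i :=
  Deriv.steps_sound h st6 ok6 (holds6 h)
theorem holds8 (h : data.Hyp gen x₀) : ∀ i < 2000, data.Holds gen x₀ i :=
  Deriv.steps_sound h st7 ok7 (holds7 h)
theorem holds9 (h : data.Hyp gen x₀) : ∀ i < 2250, data.Holds gen x₀ i :=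
  Deriv.steps_sound h st8 ok8 (holds8 h)
theorem holds10 (h : data.Hyp gen x₀) : ∀ i < 2500, data.Holds gen x₀ i :=
  Deriv.steps_sound h st9 ok9 (holds9 h)
theorem holds11 (h : data.Hyp gen x₀) : ∀ i < 2750, data.Holds gen x₀ i :=
  Deriv.steps_sound h st10 ok10 (holds10 h)
theorem holds12 (h : data.Hyp gen x₀) : ∀ i < 3000, data.Holds gen x₀ i :=
  Deriv.steps_sound h st11 ok11 (holds11 h)
theorem holds13 (h : data.Hyp gen x₀) : ∀ i < 3250, data.Holds gen x₀ i :=
  Deriv.steps_sound h st12 ok12 (holds12 h)
theorem holds14 (h : data.Hyp gen x₀) : ∀ i < 3500, data.Holds gen x₀ i :=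
  Deriv.steps_sound h st13 ok13 (holds13 h)
theorem holds15 (h : data.Hyp gen x₀) : ∀ i < 3750, data.Holds gen x₀ i :=
  Deriv.steps_sound h st14 ok14 (holds14 h)
theorem holds16 (h : data.Hyp gen x₀) : ∀ i < 4000, data.Holds gen x₀ i :=
  Deriv.steps_sound h st15 ok15 (holds15 h)
theorem holds17 (h : data.Hyp gen x₀) : ∀ i < 4250, data.Holds gen x₀ i :=
  Deriv.steps_sound h st16 ok16 (holds16 h)
theorem holds18 (h : data.Hyp gen x₀) : ∀ i < 4500, data.Holds gen x₀ i :=
  Deriv.steps_sound h st17 ok17 (holds17 h)
theorem holds19 (h : data.Hyp gen x₀) : ∀ i < 4750, data.Holds gen x₀ i :=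
  Deriv.steps_sound h st18 ok18 (holds18 h)
theorem holds20 (h : data.Hyp gen x₀) : ∀ i < 5000, data.Holds gen x₀ i :=
  Deriv.steps_sound h st19 ok19 (holds19 h)
theorem holds21 (h : data.Hyp gen x₀) : ∀ i < 5250, data.Holds gen x₀ i :=
  Deriv.steps_sound h st20 ok20 (holds20 h)
theorem holds22 (h : data.Hyp gen x₀) : ∀ i < 5500, data.Holds gen x₀ i :=
  Deriv.steps_sound h st21 ok21 (holds21 h)
theorem holds23 (h : data.Hyp gen x₀) : ∀ i < 5750, data.Holds gen x₀ i :=
  Deriv.steps_sound h st22 ok22 (holds22 h)
theorem holds24 (h : data.Hyp gen x₀) : ∀ i < 6000, data.Holds gen x₀ i :=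
  Deriv.steps_sound h st23 ok23 (holds23 h)
theorem holds25 (h : data.Hyp gen x₀) : ∀ i < 6250, data.Holds gen x₀ i :=
  Deriv.steps_sound h st24 ok24 (holds24 h)
theorem holds26 (h : data.Hyp gen x₀) : ∀ i < 6500, data.Holds gen x₀ i :=
  Deriv.steps_sound h st25 ok25 (holds25 h)
theorem holds27 (h : data.Hyp gen x₀) : ∀ i < 6750, data.Holds gen x₀ i :=
  Deriv.steps_sound h st26 ok26 (holds26 h)
theorem holds28 (h : data.Hyp gen x₀) : ∀ i < 7000, data.Holds gen x₀ i :=
  Deriv.steps_sound h st27 ok27 (holds27 h)
theorem holds29 (h : data.Hyp gen x₀) : ∀ i < 7250, data.Holds gen x₀ i :=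
  Deriv.steps_sound h st28 ok28 (holds28 h)
theorem holds30 (h : data.Hyp gen x₀) : ∀ i < 7500, data.Holds gen x₀ i :=
  Deriv.steps_sound h st29 ok29 (holds29 h)
theorem holds31 (h : data.Hyp gen x₀) : ∀ i < 7750, data.Holds gen x₀ i :=
  Deriv.steps_sound h st30 ok30 (holds30 h)
theorem holds32 (h : data.Hyp gen x₀) : ∀ i < 8000, data.Holds gen x₀ i :=
  Deriv.steps_sound h st31 ok31 (holds31 h)
theorem holds33 (h : data.Hyp gen x₀) : ∀ i < 8250, data.Holds gen x₀ i :=
  Deriv.steps_sound h st32 ok32 (holds32 h)
theorem holds34 (h : data.Hyp gen x₀) : ∀ i < 8500, data.Holds gen x₀ i :=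
  Deriv.steps_sound h st33 ok33 (holds33 h)
theorem holds35 (h : data.Hyp gen x₀) : ∀ i < 8750, data.Holds gen x₀ i :=
  Deriv.steps_sound h st34 ok34 (holds34 h)
theorem holds36 (h : data.Hyp gen x₀) : ∀ i < 9000, data.Holds gen x₀ i :=
  Deriv.steps_sound h st35 ok35 (holds35 h)
theorem holds37 (h : data.Hyp gen x₀) : ∀ i < 9250, data.Holds gen x₀ i :=
  Deriv.steps_sound h st36 ok36 (holds36 h)
theorem holds38 (h : data.Hyp gen x₀) : ∀ i < 9500, data.Holds gen x₀ i :=
  Deriv.steps_sound h st37 ok37 (holds37 h)
theorem holds39 (h : data.Hyp gen x₀) : ∀ i < 9750, data.Holds gen x₀ i :=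
  Deriv.steps_sound h st38 ok38 (holds38 h)
theorem holds40 (h : data.Hyp gen x₀) : ∀ i < 10000, data.Holds gen x₀ i :=
  Deriv.steps_sound h st39 ok39 (holds39 h)
theorem holds41 (h : data.Hyp gen x₀) : ∀ i < 10250, data.Holds gen x₀ i :=
  Deriv.steps_sound h st40 ok40 (holds40 h)
theorem holds42 (h : data.Hyp gen x₀) : ∀ i < 10500, data.Holds gen x₀ i :=
  Deriv.steps_sound h st41 ok41 (holds41 h)
theorem holds43 (h : data.Hyp gen x₀) : ∀ i < 10750, data.Holds gen x₀ i :=
  Deriv.steps_sound h st42 ok42 (holds42 h)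
theorem holds44 (h : data.Hyp gen x₀) : ∀ i < 11000, data.Holds gen x₀ i :=
  Deriv.steps_sound h st43 ok43 (holds43 h)
theorem holds45 (h : data.Hyp gen x₀) : ∀ i < 11250, data.Holds gen x₀ i :=
  Deriv.steps_sound h st44 ok44 (holds44 h)
theorem holds46 (h : data.Hyp gen x₀) : ∀ i < 11500, data.Holds gen x₀ i :=
  Deriv.steps_sound h st45 ok45 (holds45 h)
theorem holds47 (h : data.Hyp gen x₀) : ∀ i < 11750, data.Holds gen x₀ i :=
  Deriv.steps_sound h st46 ok46 (holds46 h)
theorem holds48 (h : data.Hyp gen x₀) : ∀ i < 12000, data.Holds gen x₀ i :=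
  Deriv.steps_sound h st47 ok47 (holds47 h)
theorem holds49 (h : data.Hyp gen x₀) : ∀ i < 12250, data.Holds gen x₀ i :=
  Deriv.steps_sound h st48 ok48 (holds48 h)
theorem holds50 (h : data.Hyp gen x₀) : ∀ i < 12500, data.Holds gen x₀ i :=
  Deriv.steps_sound h st49 ok49 (holds49 h)
theorem holds51 (h : data.Hyp gen x₀) : ∀ i < 12750, data.Holds gen x₀ i :=
  Deriv.steps_sound h st50 ok50 (holds50 h)
theorem holds52 (h : data.Hyp gen x₀) : ∀ i < 12752, data.Holds gen x₀ i :=
  Deriv.steps_sound h st51 ok51 (holds51 h)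
theorem holds (h : data.Hyp gen x₀) : ∀ i < 12752, data.Holds gen x₀ i := holds52 h
def nodes : List ℕ := [0,1,2,3,4,6,7,8,9,10,11,12,13,14,15,16,17,18,19,21,22,23,25,26,27,28,29,30,31,32,33,34,35,36,43,44,52,53,55,58,61,62,63,64,65,66,67,68,69,70,73,84,85,91,92,93,94,95,96,97,98,100,112,123,124,125,134,135,136,137,138,141,142,150,151,152,153,154,155,157,158,159,161,162,163,164,165,170,171,175,176,179,180,181,210,217,218,221,222,223,224,225,226,227,228,230,231,232,233,234,235,237,238,239,240,241,242,243,244,247,261,262,399,400,401,402,411,412,413,414,415,416,427,428,429,430,433,434,435,436,437,438,439,440,441,442,443,444,445,446,447,448,449,472,475,476,477,478,488,489,490,494,495,496,497,498,499,500,501,508,521,522,523,549,552,553,554,558,559,560,561,562,563,564,565,566,569,570,571,572,573,574,575,576,577,578,600,601,603,604,619,620,621,622,627,628,629,630,632,633,634,635,638,639,640,641,642,643,644,650,658,665,666,668,669,671,674,675,708,709,710,711,712,713,716,717,718,719,751,752,753,788,789,790,795,796,797,798,821,823,863,864,874,875,879,880,881,882,883,884,887,888,894,897,899,916,930,931,932,933,934,935,936,940,947,948,963,964,965,968,969,976,977,978,984,985,996,1002,1008,1020,1024,1025,1026,1027,1028,1031,1032,1033,1090,1091,1092,1114,1117,1118,1149,1150,1176,1185,1191,1192,1193,1194,1195,1199,1204,1205,1206,1207,1264,1265,1266,1267,1268,1271,1274,1280,1281,1289,1290,1398,1437,1467,1468,1470,1560,1565,1566,1567,1820,1821,1822,1903,1906,1909,1934,1938,1939,1999,2015,2029,2031,2156]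
def exits : List (List ℕ) := [
  [1,4,2,3],
  [7,5,95,8],
  [10,204,9,20],
  [11,206,19,12],
  [2209,2335,13,2214],
  [2252,2369,2215,18],
  [118,1012,21,22],
  [24,9444,23,99],
  [25,9386,130,26],
  [28,2898,27,2398],
  [29,2960,2595,30],
  [32,199,31,2709],
  [33,201,34,2704],
  [36,12403,2782,35],
  [37,12383,38,2978],
  [40,8314,2982,39],
  [41,3164,42,3166],
  [3184,9033,44,43],
  [3169,11251,3167,45],
  [8298,3165,8300,50],
  [9482,9775,51,52],
  [11482,20427,53,8301],
  [8299,8315,9340,58],
  [60,22289,59,10116],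
  [61,22011,10193,62],
  [64,200,63,10246],
  [65,198,66,10003],
  [68,19044,10082,67],
  [69,10485,70,10175],
  [72,9387,10177,71],
  [73,9445,74,6715],
  [10443,23190,76,75],
  [2551,20926,78,77],
  [2333,2334,6954,79],
  [2253,9795,96,94],
  [2355,10627,98,97],
  [119,1014,120,155],
  [2429,10475,2445,121],
  [2354,11973,2541,2444],
  [156,2644,2399,131],
  [1018,12276,138,2594],
  [2851,1558,140,139],
  [142,11129,1570,141],
  [143,11233,144,2806],
  [2771,12489,146,145],
  [148,12057,2663,147],
  [149,1592,150,2540],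
  [2729,2624,152,151],
  [2609,2514,154,153],
  [157,12421,2705,2777],
  [2770,12483,2766,2783],
  [209,205,9351,237],
  [208,207,9731,9341],
  [12426,2645,9401,222],
  [224,12438,223,8776],
  [225,12453,12467,226],
  [228,10104,227,9478],
  [229,20683,9629,230],
  [11990,9032,231,232],
  [234,11709,233,10871],
  [235,11608,236,2418],
  [2981,12093,2708,1571],
  [2728,11236,2946,2947],
  [2755,11893,292,2662],
  [2793,12105,294,293],
  [2608,2820,2807,295],
  [2951,2515,12475,316],
  [2936,22508,317,318],
  [10162,23269,319,320],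
  [322,23187,321,12485],
  [323,23553,10020,10083],
  [330,561,10174,10176],
  [331,563,10247,10212],
  [19038,10484,19040,348],
  [18995,25039,349,350],
  [23403,23222,351,352],
  [354,25126,353,21751],
  [355,25123,22346,356],
  [18617,18679,357,18701],
  [362,565,18700,12267],
  [363,567,364,22013],
  [19039,19045,19057,365],
  [370,21985,21753,19041],
  [371,21709,372,21186],
  [20705,23005,374,373],
  [9838,20503,376,375],
  [20783,9774,19780,377],
  [9483,20785,9418,388],
  [9345,12143,389,9350],
  [2754,12102,402,2859],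
  [2792,11913,2858,403],
  [12062,1593,12077,412],
  [414,24049,413,9433],
  [415,24099,9296,9419],
  [9793,2368,2370,9730],
  [494,566,10002,10004],
  [495,564,10117,10058],
  [502,20449,10190,10192],
  [503,25113,504,10226],
  [10257,22319,506,505],
  [10288,21657,508,507],
  [10326,510,10328,509],
  [22850,511,22881,512],
  [23949,23796,513,514],
  [23079,24026,515,22880],
  [22851,22855,23840,520],
  [522,22288,521,17002],
  [523,22010,22012,524],
  [526,562,525,24822],
  [527,560,528,10956],
  [21373,24624,21374,529],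
  [534,21667,25119,21375],
  [535,21656,536,23405],
  [24292,21954,538,537],
  [23756,22244,540,539],
  [22118,542,23800,541],
  [11925,543,10870,544],
  [11856,21617,545,546],
  [11658,22245,547,9628],
  [9792,9794,9479,10046],
  [10505,25499,6714,596],
  [2550,20385,597,6955],
  [2950,2821,12129,932],
  [12132,21737,933,934],
  [10068,24041,935,936],
  [10163,24721,937,12137],
  [10442,23004,956,10450],
  [10473,10474,958,957],
  [10504,25484,960,959],
  [12499,962,10534,961],
  [23327,963,22057,964],
  [22339,22064,965,22347],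
  [23078,24385,988,23446],
  [20704,23191,990,989],
  [20424,20426,992,991],
  [20696,10105,23463,993],
  [9991,12107,10047,1000],
  [1002,17087,1001,12465],
  [1003,17079,11277,1004],
  [1006,11250,1005,11275],
  [1007,11246,10059,2371],
  [1017,1013,1161,1039],
  [1016,1015,11987,3380],
  [1019,12273,1020,2767],
  [2850,1022,2776,1021],
  [2948,1023,12412,1024],
  [1026,12272,1025,12274],
  [1027,12277,12399,1028],
  [1030,12356,1029,12385],
  [1031,22065,11548,1032],
  [11516,12525,1033,1034],
  [1036,23233,1035,11549],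
  [1037,23045,1038,11470],
  [12021,12031,2419,9297],
  [1094,11128,9432,12091],
  [1095,11232,10227,1096],
  [1098,23461,1097,10329],
  [1099,23663,10451,9681],
  [24719,23268,23447,1120],
  [1122,23460,1121,23462],
  [1123,23662,23664,23841],
  [23948,12463,1132,24105],
  [1134,24098,24100,1133],
  [1135,24048,1136,24050],
  [1138,25489,23900,1137],
  [1139,24944,1140,23734],
  [23534,25486,1142,1141],
  [23326,23328,1144,1143],
  [11936,11609,23727,1145],
  [11483,11456,11491,1160],
  [2937,23098,23682,1194],
  [1196,23355,1195,23477],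
  [1197,23169,9680,10535],
  [2949,1559,12396,12398],
  [1264,12382,12384,12386],
  [1265,12402,12404,1266],
  [12427,12420,1267,12422],
  [1276,12462,12464,12466],
  [1277,23797,1278,12474],
  [1280,12482,12484,1279],
  [1281,12488,1282,23507],
  [12498,23329,1284,1283],
  [12506,25339,1286,1285],
  [12514,1288,12516,1287],
  [23402,1289,23404,1290],
  [23614,24258,1291,23801],
  [23757,23566,23568,1298],
  [1300,23354,1299,23360],
  [1301,23168,23373,1302],
  [1304,2957,1303,23177],
  [1305,12030,1306,25190],
  [1308,22980,25257,1307],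
  [1309,23180,1310,23182],
  [1312,23232,24748,1311],
  [1313,23044,1314,23046],
  [23768,25502,23176,1315],
  [2963,2899,12027,1372],
  [9007,22569,1373,9012],
  [1378,24550,9013,9020],
  [1379,9879,9080,10021],
  [10948,2625,11474,1416],
  [3070,12344,1417,1418],
  [11970,11972,1419,1420],
  [11991,11984,1421,11986],
  [12020,2956,1432,12026],
  [1434,23181,12040,1433],
  [1435,22981,1436,12048],
  [12063,12056,12058,1437],
  [23473,23893,1442,12076],
  [12080,25487,1444,1443],
  [12088,1446,12090,1445],
  [25252,1447,25254,25256],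
  [1454,25140,25191,25146],
  [1455,25082,25084,1456],
  [1458,25154,1457,25156],
  [1459,25194,25196,1460],
  [1462,12452,1461,12454],
  [1463,12439,1464,23372],
  [23769,25501,23047,1465],
  [24443,9878,24338,25255],
  [2962,2961,10393,3083],
  [2980,11357,2979,2991],
  [3175,12106,3176,2983],
  [3179,12142,2988,3177],
  [3168,11247,2990,2989],
  [23698,25122,10005,9081],
  [3002,22675,9021,12041],
  [3003,22678,24715,10392],
  [3071,21159,11966,3072],
  [3074,25141,3073,12528],
  [3075,25083,12275,3076],
  [11755,24625,3077,3078],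
  [3080,11356,3079,11358],
  [3081,12092,3082,12191],
  [12089,25342,10213,3090],
  [3092,25491,3091,10191],
  [3093,9324,9306,3094],
  [9467,18678,3095,9400],
  [3185,11985,3186,3353],
  [3351,3188,3352,3187],
  [3367,3189,8064,11490],
  [3270,21955,24391,12405],
  [3271,24183,3272,12100],
  [11659,23567,11897,3273],
  [11937,11708,23885,3284],
  [24035,23892,3285,3286],
  [24038,24040,3287,3288],
  [24293,24182,3289,24184],
  [11385,25038,12387,11388],
  [11444,12675,3381,11475],
  [3466,21984,12423,24499],
  [3467,21708,8418,9307],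
  [10949,11237,11946,3490],
  [11857,24374,3491,11947],
  [3500,11892,11921,11896],
  [3501,12103,3502,11904],
  [3504,11912,12138,3503],
  [3505,12104,3506,11920],
  [11924,21829,3508,3507],
  [12196,24141,12101,3509],
  [20782,20784,24185,3516],
  [20612,20927,3517,23884],
  [22338,12357,21187,20894],
  [24442,24551,21750,21752],
  [22317,22318,25147,24339],
  [12599,25155,11389,12397],
  [21157,12345,22030,3616],
  [23535,24884,3617,3618],
  [24034,23475,3619,3620],
  [3622,18340,3621,21465],
  [3623,18274,21464,3624],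
  [3626,21736,3625,22031],
  [3627,22022,22307,23569],
  [22119,21828,23361,21911],
  [11971,10626,11471,3650],
  [11286,20502,3651,8065],
  [3686,22706,12146,11967],
  [3687,23979,3688,12139],
  [12133,22023,12140,3689],
  [12122,23765,3696,12128],
  [24383,24027,12136,3697],
  [24718,24720,24722,3712],
  [3714,12674,3713,24644],
  [3715,12676,24823,24827],
  [25110,25112,3728,25118],
  [25172,9325,25174,3729],
  [11517,12523,11359,12413],
  [11287,20284,11274,11276],
  [12197,24259,12190,12192],
  [12264,25346,12266,22056],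
  [3824,20462,20895,19781],
  [3825,20236,19973,3826],
  [3828,12522,3827,22225],
  [3829,12524,3830,23665],
  [25111,20448,22435,3831],
  [25173,25490,3838,24071],
  [23744,23186,3840,3839],
  [23923,23764,12455,3841],
  [8764,22193,3968,12059],
  [8506,11842,3970,3969],
  [12081,24885,8422,3971],
  [12265,25338,24051,23901],
  [23776,25498,23735,4032],
  [9839,20285,4033,23726],
  [4102,25488,12049,8423],
  [4103,24945,12193,24802],
  [24708,25500,24803,24714],
  [23699,25127,23506,23508],
  [22897,22509,20565,4188],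
  [20697,20682,4189,4190],
  [20613,20384,4191,4192],
  [4194,17086,4193,17101],
  [4195,17078,20213,19972],
  [20425,11457,23593,20212],
  [8765,21909,4220,12141],
  [4222,18275,11905,4221],
  [4223,18341,4224,12147],
  [11445,12677,12531,4225],
  [24039,25393,4350,22101],
  [4352,24375,21896,4351],
  [4353,21616,4354,22306],
  [4356,21908,21910,4355],
  [4357,22192,24645,25101],
  [22896,23099,22902,24723],
  [23472,23474,23476,23683],
  [24382,24384,4382,24390],
  [24709,25503,24498,4383],
  [25098,23978,25100,4400],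
  [25099,22707,4401,22903],
  [22433,22568,17003,22434],
  [21156,21158,24826,19056],
  [10289,21666,4802,7849],
  [12515,23223,7848,4803],
  [7523,24069,23509,12517],
  [12123,22099,8777,8419],
  [10069,25392,5020,7818],
  [8507,12564,5022,5021],
  [12507,25347,7456,5023],
  [7512,20237,5600,7457],
  [7513,20463,5602,5601],
  [10327,22854,7819,5603],
  [23922,22098,22100,24749],
  [23745,23552,25157,24101],
  [24201,24068,24070,25197],
  [23777,25485,23590,23592],
  [10958,22679,10957,25175],
  [10959,22674,22224,23591],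
  [12679,11843,20562,20564],
  [12598,25195,12529,12530],
  [23615,24140,17100,20563],
  [12678,12565,23183,21897],
  [25253,25343,24104,25085]]
theorem closed : closedOK data 12752 nodes exits = true := by decide +kernel

end

end Step
end A2
end H77
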