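import Mathlib
import Cfsg.Agent.H77.A2.Table.E0
import Cfsg.Agent.H77.A2.Table.E1
import Cfsg.Agent.H77.A2.Table.E2

/-!
The 10500 cosets of the subgroup on x and y³ (generated data).
-/

set_option autoImplicit false
set_option maxRecDepth 100000
set_option linter.all false
set_option Elab.async false

namespace H77
namespace A2
namespace Table

open H93.CosetI

noncomputable section

theorem tables : Tables data where
  pos := Nat.succ_pos _
  edges g hg c hc := by
    have hg' : g = 0 ∨ g = 1 ∨ g = 2 := by have : g < 3 := hg; omega
    have hc' : c < 10500 := hc
    rcases hg' with rfl | rfl | rfl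
    · by_cases h0 : c < 1500
      · exact Data.edgesOK_spec _ edge0_0 (by omega) (by omega)
      by_cases h1 : c < 3000
      · exact Data.edgesOK_spec _ edge0_1 (by omega) (by omega)
      by_cases h2 : c < 4500
      · exact Data.edgesOK_spec _ edge0_2 (by omega) (by omega)
      by_cases h3 : c < 6000
      · exact Data.edgesOK_spec _ edge0_3 (by omega) (by omega)
      by_cases h4 : c < 7500
      · exact Data.edgesOK_spec _ edge0_4 (by omega) (by omega)
      by_cases h5 : c < 9000
      · exact Data.edgesOK_spec _ edge0_5 (by omega) (by omega)
      exact Data.edgesOK_spec _ edge0_6 (by omega) (by omega)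
    · by_cases h0 : c < 1500
      · exact Data.edgesOK_spec _ edge1_0 (by omega) (by omega)
      by_cases h1 : c < 3000
      · exact Data.edgesOK_spec _ edge1_1 (by omega) (by omega)
      by_cases h2 : c < 4500
      · exact Data.edgesOK_spec _ edge1_2 (by omega) (by omega)
      by_cases h3 : c < 6000
      · exact Data.edgesOK_spec _ edge1_3 (by omega) (by omega)
      by_cases h4 : c < 7500
      · exact Data.edgesOK_spec _ edge1_4 (by omega) (by omega)
      by_cases h5 : c < 9000
      · exact Data.edgesOK_spec _ edge1_5 (by omega) (by omega)
      exact Data.edgesOK_spec _ edge1_6 (by omega) (by omega)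
    · by_cases h0 : c < 1500
      · exact Data.edgesOK_spec _ edge2_0 (by omega) (by omega)
      by_cases h1 : c < 3000
      · exact Data.edgesOK_spec _ edge2_1 (by omega) (by omega)
      by_cases h2 : c < 4500
      · exact Data.edgesOK_spec _ edge2_2 (by omega) (by omega)
      by_cases h3 : c < 6000
      · exact Data.edgesOK_spec _ edge2_3 (by omega) (by omega)
      by_cases h4 : c < 7500
      · exact Data.edgesOK_spec _ edge2_4 (by omega) (by omega)
      by_cases h5 : c < 9000
      · exact Data.edgesOK_spec _ edge2_5 (by omega) (by omega)
      exact Data.edgesOK_spec _ edge2_6 (by omega) (by omega)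
  tree := treeOK_all
  letters := by decide +kernel
  subfix := by decide +kernel

end

end Table
end A2
end H77
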