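import Mathlib
import Cfsg.Agent.H23.HN.Main
import Cfsg.Agent.H77.HN.Group
import Cfsg.Agent.H77.A2.Closed
import Cfsg.Agent.H77.A2.Step
import Cfsg.Agent.H77.A2.Power
import Cfsg.Agent.H77.A2.Table

/-!
The relations on `x`, `y`, `z` bound the group they generate by `2 · 352 · 252000`.
-/

set_option autoImplicit false

namespace H77
namespace A2

open H93.CosetI

variable {G : Type*} [Group G]

/-- values of three letters -/
def v3 (a b : G) : ℕ → G
  | 0 => a
  | 1 => b
  | _ => b⁻¹

/-- values of four letters -/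
def v4 (a c b : G) : ℕ → G
  | 0 => a
  | 1 => c
  | 2 => b
  | _ => b⁻¹

theorem dihedral_bound {a u : G} (hgen : Subgroup.closure ({a, u} : Set G) = ⊤) (ha : a * a = 1)
    (hu : u * u = 1) {k : ℕ} (hk : 0 < k) (hau : (a * u) ^ k = 1) :
    Finite G ∧ Nat.card G ≤ 2 * k := by
  set P := Subgroup.zpowers (a * u) with hP
  have hai : a⁻¹ = a := inv_eq_of_mul_eq_one_left ha
  have hui : u⁻¹ = u := inv_eq_of_mul_eq_one_left hu
  have hconj : ∀ q ∈ P, a * q * a ∈ P := by
    intro q hq
    obtain ⟨j, rfl⟩ := Subgroup.mem_zpowers_iff.mp hq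
    refine Subgroup.mem_zpowers_iff.mpr ⟨-j, ?_⟩
    have h1 : a * (a * u) * a⁻¹ = (a * u)⁻¹ := by
      rw [← mul_assoc, ha, one_mul, mul_inv_rev, hai, hui]
    conv_rhs => rw [show a * (a * u) ^ j * a = a * (a * u) ^ j * a⁻¹ from by rw [hai]]
    rw [← conj_zpow, h1, inv_zpow, zpow_neg]
  have haa : ∀ q : G, a * (a * q) = q := fun q => by rw [← mul_assoc, ha, one_mul]
  have key : ∀ g : G, g ∈ P ∨ a * g ∈ P := by
    intro g
    have hg : g ∈ Subgroup.closure ({a, u} : Set G) := hgen ▸ Subgroup.mem_top g
    induction hg using Subgroup.closure_induction with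
    | mem q hq =>
      right
      rcases hq with rfl | hq
      · rw [ha]; exact P.one_mem
      · rw [Set.mem_singleton_iff] at hq; subst hq; exact Subgroup.mem_zpowers _
    | one => exact Or.inl P.one_mem
    | inv q _ hq =>
      rcases hq with h | h
      · exact Or.inl (P.inv_mem h)
      · right
        have := hconj _ (P.inv_mem h)
        rwa [mul_inv_rev, hai, mul_assoc, mul_assoc, ha, mul_one] at this
    | mul q r _ _ hq hr =>
      rcases hq with h | h <;> rcases hr with h' | h'
      · exact Or.inl (P.mul_mem h h')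
      · right
        have := P.mul_mem (hconj _ h) h'
        rwa [mul_assoc (a * q), haa, mul_assoc] at this
      · right
        have := P.mul_mem h h'
        rwa [mul_assoc] at this
      · left
        have := P.mul_mem (hconj _ h) h'
        rwa [haa, mul_assoc q, haa] at this
  have hfin : IsOfFinOrder (a * u) := isOfFinOrder_iff_pow_eq_one.mpr ⟨k, hk, hau⟩
  have hcard : Finite P ∧ Nat.card P ≤ k :=
    ⟨Set.finite_coe_iff.mpr hfin.finite_zpowers, by
      rw [Nat.card_zpowers]; exact orderOf_le_of_pow_eq_one hk hau⟩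
  have := bound_of_surj P (fun i : Fin 2 => ((![1, a] i : G) : G ⧸ P)) (fun q => by
    induction q using QuotientGroup.induction_on with
    | _ g =>
      rcases key g with h | h
      · exact ⟨0, by show ((1 : G) : G ⧸ P) = _; rw [QuotientGroup.eq]; simpa using h⟩
      · exact ⟨1, by show ((a : G) : G ⧸ P) = _; rw [QuotientGroup.eq, hai]; exact h⟩) hcard
  rwa [Nat.card_fin] at this

theorem closure_sub_top {s : Set G} (t : Set (Subgroup.closure s)) (h : Subtype.val '' t = s) :
    Subgroup.closure t = ⊤ := by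
  apply Subgroup.map_injective (Subgroup.closure s).subtype_injective
  rw [MonoidHom.map_closure, ← MonoidHom.range_eq_map, Subgroup.range_subtype, Subgroup.coe_subtype, h]

/-- the relators on three letters hold -/
theorem rels_two {a b c : G} (h : H77.HN.XYZRel a b c) (ha : a ^ 2 = 1) :
    ∀ w ∈ Power.data.words.take Power.data.nrel, ev (v3 a b) w = 1 := by
  have haa : a * a = 1 := by rw [← pow_two]; exact ha
  have hai : a⁻¹ = a := inv_eq_of_mul_eq_one_left haa
  intro w hw
  simp only [Power.data, Power.words, List.take_succ_cons, List.take_zero, List.mem_cons,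
    List.not_mem_nil, or_false] at hw
  rcases hw with rfl | rfl | rfl | rfl | rfl | rfl | rfl
  · simpa [v3, ev] using haa
  · simpa [v3, ev, pow_succ, mul_assoc] using h.y_six
  · simpa [v3, ev, pow_succ, mul_assoc, hai] using h.comm_three
  · simpa [v3, ev, pow_succ, mul_assoc, hai] using h.mixed_three
  · simpa [v3, ev, pow_succ, mul_assoc] using h.xy_eight
  · simpa [v3, ev, pow_succ, mul_assoc] using h.xyxy3_four
  · simpa [v3, ev, pow_succ, mul_assoc, mul_inv_rev, hai] using H23.HN.r35 h

theorem v3_inv {a b : G} (ha : a * a = 1) : ∀ g < 3, v3 a b (iv3 g) * v3 a b g = 1 := by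
  intro g hg
  obtain rfl | rfl | rfl : g = 0 ∨ g = 1 ∨ g = 2 := by omega
  all_goals simp [v3, iv3, ha]

theorem iv3_lt : ∀ g < 3, iv3 g < 3 := by decide

theorem two_bound (a b : G) (hgen : Subgroup.closure ({a, b} : Set G) = ⊤) (ha : a * a = 1)
    (hb : b ^ 6 = 1) (hrel : ∀ w ∈ Power.data.words.take Power.data.nrel, ev (v3 a b) w = 1) :
    Finite G ∧ Nat.card G ≤ 252000 := by
  have hpow : ev (v3 a b) Power.word • (1 : G) = 1 := by
    refine Power.fix ⟨v3_inv ha, iv3_lt, hrel, fun w hw => ?_⟩
    have : w ∈ Power.data.words.take Power.data.nrel := hw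
    rw [hrel w this, one_smul]
  have hau : (a * b ^ 3) ^ 12 = 1 := by
    simpa [Power.word, v3, ev, pow_succ, mul_assoc] using hpow
  have hub : b ^ 3 * b ^ 3 = 1 := by rw [← pow_add]; exact hb
  let L := Subgroup.closure ({a, b ^ 3} : Set G)
  let as : L := ⟨a, Subgroup.subset_closure (Or.inl rfl)⟩
  let us : L := ⟨b ^ 3, Subgroup.subset_closure (Or.inr rfl)⟩
  have hL : Finite L ∧ Nat.card L ≤ 24 :=
    dihedral_bound (a := as) (u := us) (closure_sub_top _ (by simp [as, us, Set.image_insert_eq]))
      (Subtype.ext ha) (Subtype.ext hub) (k := 12) (by norm_num) (Subtype.ext hau)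
  have hw : Table.data.words.take Table.data.nrel = Power.data.words.take Power.data.nrel := rfl
  have hgen3 : Subgroup.closure (v3 a b '' {g | g < Table.data.ng}) = ⊤ := by
    rw [eq_top_iff, ← hgen, Subgroup.closure_le]
    rintro q (rfl | hq)
    · exact Subgroup.subset_closure ⟨0, by decide +kernel, rfl⟩
    · rw [Set.mem_singleton_iff] at hq
      subst hq
      exact Subgroup.subset_closure ⟨1, by decide +kernel, rfl⟩
  have hsub : ∀ w ∈ Table.data.words.drop Table.data.nrel, ev (v3 a b) w ∈ L := by
    intro w hw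
    simp only [Table.data, Table.words, List.drop_succ_cons, List.drop_zero, List.mem_cons,
      List.not_mem_nil, or_false] at hw
    rcases hw with rfl | rfl
    · have e : ev (v3 a b) [0] = a := by simp [v3, ev]
      rw [e]; exact as.2
    · have := us.2
      simpa [v3, ev, us, pow_succ, mul_assoc] using this
  have hyp : Data.Hyp (v3 a b) ((1 : G) : G ⧸ L) Table.data := by
    refine ⟨Table.tables.pos, v3_inv ha, iv3_lt, ?_, ?_, Table.tables.mem_letters,
      fun g hg c hc => (Table.tables.closed hg hc).1, Table.tables.edges⟩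
    · intro r w hw' hr q
      rw [hrel w (hw ▸ (mem_take_or_drop hw').1 hr), one_smul]
    · intro r w hw'
      rcases (mem_take_or_drop (k := Table.data.nrel) hw').2 with h | h
      · rw [hrel w (hw ▸ h), one_smul]
      · show ((ev (v3 a b) w * 1 : G) : G ⧸ L) = ((1 : G) : G ⧸ L)
        rw [QuotientGroup.eq, mul_one, mul_one]
        exact inv_mem (hsub w h)
  have := bound_of_surj L
    (fun i : Fin Table.data.n => Table.data.node (v3 a b) ((1 : G) : G ⧸ L) i) (fun q => by
      induction q using QuotientGroup.induction_on with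
      | _ g =>
        obtain ⟨i, hi, e⟩ := Data.node_surj hyp hgen3 g
        exact ⟨⟨i, hi⟩, e.trans (congrArg (fun z : G => (z : G ⧸ L)) (mul_one g))⟩) hL
  rw [Nat.card_fin] at this
  exact this

theorem rels_three {a b c : G} (h : H77.HN.XYZRel a b c) (ha : a ^ 2 = 1) :
    ∀ w ∈ Step.data.words.take Step.data.nrel, ev (v4 a c b) w = 1 := by
  have haa : a * a = 1 := by rw [← pow_two]; exact ha
  have hai : a⁻¹ = a := inv_eq_of_mul_eq_one_left haa
  have hcc : c * c = 1 := by rw [← pow_two]; exact h.z_two
  have hci : c⁻¹ = c := inv_eq_of_mul_eq_one_left hcc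
  intro w hw
  simp only [Step.data, Step.words, List.take_succ_cons, List.take_zero, List.mem_cons,
    List.not_mem_nil, or_false] at hw
  rcases hw with rfl | rfl | rfl | rfl | rfl | rfl | rfl | rfl | rfl | rfl | rfl
  · simpa [v4, ev] using haa
  · simpa [v4, ev, pow_succ, mul_assoc] using h.y_six
  · simpa [v4, ev, pow_succ, mul_assoc, hai] using h.comm_three
  · simpa [v4, ev, pow_succ, mul_assoc, hai] using h.mixed_three
  · simpa [v4, ev, pow_succ, mul_assoc] using h.xy_eight
  · simpa [v4, ev, pow_succ, mul_assoc] using h.xyxy3_four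
  · simpa [v4, ev, pow_succ, mul_assoc, mul_inv_rev, hai] using H23.HN.r35 h
  · simpa [v4, ev] using hcc
  · simpa [v4, ev, pow_succ, mul_assoc] using h.zx_two
  · simpa [v4, ev, pow_succ, mul_assoc, mul_inv_rev, hai, hci, haa] using h.z_comm
  · simpa [v4, ev, pow_succ, mul_assoc, mul_inv_rev, hai, hci] using h.z_conj

theorem v4_inv {a b c : G} (ha : a * a = 1) (hc : c * c = 1) :
    ∀ g < 4, v4 a c b (iv4 g) * v4 a c b g = 1 := by
  intro g hg
  obtain rfl | rfl | rfl | rfl : g = 0 ∨ g = 1 ∨ g = 2 ∨ g = 3 := by omega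
  all_goals simp [v4, iv4, ha, hc]

theorem iv4_lt : ∀ g < 4, iv4 g < 4 := by decide

theorem three_bound {a b c : G} (hgen : Subgroup.closure ({a, b, c} : Set G) = ⊤)
    (h : H77.HN.XYZRel a b c) (ha : a ^ 2 = 1) : Finite G ∧ Nat.card G ≤ 88704000 := by
  have haa : a * a = 1 := by rw [← pow_two]; exact ha
  have hcc : c * c = 1 := by rw [← pow_two]; exact h.z_two
  let L := Subgroup.closure ({a, b} : Set G)
  let as : L := ⟨a, Subgroup.subset_closure (Or.inl rfl)⟩
  let bs : L := ⟨b, Subgroup.subset_closure (Or.inr rfl)⟩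
  have hL : Finite L ∧ Nat.card L ≤ 252000 :=
    two_bound as bs (closure_sub_top _ (by simp [as, bs, Set.image_insert_eq]))
      (Subtype.ext haa) (Subtype.ext h.y_six) fun w hw => Subtype.ext (by
        rw [← Subgroup.coe_subtype, H93.ONSub.map_ev]
        have hv : (fun k => L.subtype (v3 as bs k)) = v3 a b := by
          funext k
          match k with
          | 0 => rfl
          | 1 => rfl
          | k + 2 => rfl
        rw [hv, rels_two h ha w hw]
        rfl)
  have hgen4 : Subgroup.closure (v4 a c b '' {g | g < Step.data.ng}) = ⊤ := by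
    rw [eq_top_iff, ← hgen, Subgroup.closure_le]
    rintro q (rfl | rfl | hq)
    · exact Subgroup.subset_closure ⟨0, by decide +kernel, rfl⟩
    · exact Subgroup.subset_closure ⟨2, by decide +kernel, rfl⟩
    · rw [Set.mem_singleton_iff] at hq
      subst hq
      exact Subgroup.subset_closure ⟨1, by decide +kernel, rfl⟩
  have hyp : Step.data.Hyp (v4 a c b) ((1 : G) : G ⧸ L) := by
    refine ⟨v4_inv haa hcc, iv4_lt, rels_three h ha, fun w hw => ?_⟩
    rw [← List.take_append_drop Step.data.nrel Step.data.words, List.mem_append] at hw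
    rcases hw with hw | hw
    · rw [rels_three h ha w hw, one_smul]
    · simp only [Step.data, Step.words, List.drop_succ_cons, List.drop_zero, List.mem_cons,
        List.not_mem_nil, or_false] at hw
      show ((ev (v4 a c b) w * 1 : G) : G ⧸ L) = ((1 : G) : G ⧸ L)
      rw [QuotientGroup.eq, mul_one, mul_one]
      refine inv_mem ?_
      rcases hw with rfl | rfl
      · have e : ev (v4 a c b) [0] = a := by simp [v4, ev]
        rw [e]; exact as.2
      · have e : ev (v4 a c b) [2] = b := by simp [v4, ev]
        rw [e]; exact bs.2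
  have := bound_of_closed hyp (Step.holds hyp) Step.closed hgen4 hL
  refine ⟨this.1, this.2.trans ?_⟩
  have hn : Step.nodes.length = 352 := by decide +kernel
  rw [hn]

theorem card_closure {Γ : Type*} [Group Γ] {x y z : Γ} (h : H77.HN.XYZRel x y z) :
    Finite (Subgroup.closure ({x, y, z} : Set Γ)) ∧
      Nat.card (Subgroup.closure ({x, y, z} : Set Γ)) ≤ 177408000 := by
  let S := Subgroup.closure ({x, y, z} : Set Γ)
  let xs : S := ⟨x, Subgroup.subset_closure (by simp)⟩
  let ys : S := ⟨y, Subgroup.subset_closure (by simp)⟩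
  let zs : S := ⟨z, Subgroup.subset_closure (by simp)⟩
  have hS : H77.HN.XYZRel xs ys zs := H23.HN.rel_comap S.subtype Subtype.val_injective h
  have htop : Subgroup.closure ({xs, ys, zs} : Set S) = ⊤ :=
    closure_sub_top _ (by simp [xs, ys, zs, Set.image_insert_eq])
  have hcen : xs ^ 2 ∈ Subgroup.center S := by
    rw [Subgroup.mem_center_iff]
    intro g
    have hg : g ∈ Subgroup.closure ({xs, ys, zs} : Set S) := htop ▸ Subgroup.mem_top g
    show Commute g (xs ^ 2)
    induction hg using Subgroup.closure_induction with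
    | mem q hq =>
      simp only [Set.mem_insert_iff, Set.mem_singleton_iff] at hq
      rcases hq with rfl | rfl | rfl
      · exact Commute.self_pow _ 2
      · exact H23.HN.sq_comm_y hS
      · exact H23.HN.sq_comm_z hS
    | one => exact Commute.one_left _
    | mul q r _ _ hq hr => exact hq.mul_left hr
    | inv q _ hq => exact hq.inv_left
  let Z := Subgroup.zpowers (xs ^ 2)
  have : Z.Normal := ⟨fun n hn g => by
    obtain ⟨j, rfl⟩ := Subgroup.mem_zpowers_iff.mp hn
    rw [(Subgroup.mem_center_iff.mp ((Subgroup.center S).zpow_mem hcen j) g), mul_inv_cancel_right]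
    exact hn⟩
  have h4 : (xs ^ 2) ^ 2 = 1 := by rw [← pow_mul]; exact H23.HN.x_four hS
  have hZ : Finite Z ∧ Nat.card Z ≤ 2 :=
    ⟨Set.finite_coe_iff.mpr (isOfFinOrder_iff_pow_eq_one.mpr ⟨2, two_pos, h4⟩).finite_zpowers, by
      rw [Nat.card_zpowers]; exact orderOf_le_of_pow_eq_one two_pos h4⟩
  let π := QuotientGroup.mk' Z
  have hπ : Function.Surjective π := QuotientGroup.mk'_surjective Z
  have hQ := three_bound (G := S ⧸ Z) (a := π xs) (b := π ys) (c := π zs)
    (by
      have := congrArg (Subgroup.map π) htop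
      rwa [MonoidHom.map_closure, Subgroup.map_top_of_surjective π hπ, Set.image_insert_eq,
        Set.image_insert_eq, Set.image_singleton] at this)
    (H23.HN.rel_map π hS)
    (by rw [← map_pow]; exact (QuotientGroup.eq_one_iff _).mpr (Subgroup.mem_zpowers _))
  have := hQ.1
  obtain ⟨h1, h2⟩ := bound_of_surj Z (id : S ⧸ Z → S ⧸ Z) Function.surjective_id hZ
  exact ⟨h1, h2.trans (by have := hQ.2; omega)⟩

theorem xyzBound : H77.HN.XYZBound := ⟨fun h => card_closure h⟩

end A2
end H77
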