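import Mathlib

/-!
Letters: `x`, `y`, `y⁻¹` or `x`, `z`, `y`, `y⁻¹`, with `x` and `z` involutions.
-/

set_option autoImplicit false

namespace H77
namespace A2

/-- the letter of the inverse, three letters -/
def iv3 : ℕ → ℕ
  | 1 => 2
  | 2 => 1
  | g => g

/-- the letter of the inverse, four letters -/
def iv4 : ℕ → ℕ
  | 2 => 3
  | 3 => 2
  | g => g

end A2
end H77
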